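import Groth.Prelude.Def_Red2
import Groth.Prelude.Def_GmPts
import Mathlib.Algebra.Category.Ring.Under.Basic

/-! Points of the additive group are the global functions. -/

noncomputable section

universe u

open CategoryTheory MonoidalCategory CartesianMonoidalCategory MonObj GrpObj AlgebraicGeometry Limits Opposite
open scoped TensorProduct

namespace Groth.Agent.GaPts

abbrev Z : Type u := ULift.{u} ℤ

abbrev Coord : Type u := SymmetricAlgebra Z.{u} Z.{u}

/-- the generator -/
abbrev z₀ : Coord.{u} := SymmetricAlgebra.ι Z.{u} Z.{u} (ULift.up 1)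

abbrev coordIso : Γ(Spec (CommRingCat.of Coord.{u}), ⊤) ≅ CommRingCat.of Coord.{u} :=
  Scheme.ΓSpecIso (CommRingCat.of Coord.{u})

/-- integers into any ring -/
def cast (R : Type u) [CommRing R] : Z.{u} →+* R :=
  (Int.castRingHom R).comp (ULift.ringEquiv : ULift.{u} ℤ ≃+* ℤ).toRingHom

/-- the algebra structure compatible with the lifted module structure -/
abbrev zAlg (R : Type u) [CommRing R] : Algebra Z.{u} R :=
  Algebra.ofModule (fun r x y => smul_mul_assoc r.down x y) (fun r x y => mul_smul_comm r.down x y)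

lemma ringHom_ext_Z {R : Type u} [CommRing R] (f g : Z.{u} →+* R) : f = g := by
  have h := (f.comp (ULift.ringEquiv : ULift.{u} ℤ ≃+* ℤ).symm.toRingHom).ext_int
    (g.comp (ULift.ringEquiv : ULift.{u} ℤ ≃+* ℤ).symm.toRingHom)
  exact RingHom.ext fun x => congrArg (fun e : ℤ →+* R => e x.down) h

theorem ringHom_ext {R : Type u} [CommRing R] {f g : Coord.{u} →+* R} (h : f z₀ = g z₀) : f = g := by
  letI := zAlg R
  let f' : Coord.{u} →ₐ[Z.{u}] R :=
    { f with commutes' := fun r => RingHom.congr_fun (ringHom_ext_Z (f.comp (algebraMap _ _)) (algebraMap _ _)) r }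
  let g' : Coord.{u} →ₐ[Z.{u}] R :=
    { g with commutes' := fun r => RingHom.congr_fun (ringHom_ext_Z (g.comp (algebraMap _ _)) (algebraMap _ _)) r }
  suffices f' = g' from congrArg AlgHom.toRingHom this
  apply SymmetricAlgebra.algHom_ext
  exact LinearMap.ext_ring h

/-- the ring map classified by a function -/
def ringHomOf {R : Type u} [CommRing R] (a : R) : Coord.{u} →+* R :=
  letI := zAlg R
  (SymmetricAlgebra.lift (LinearMap.toSpanSingleton Z.{u} R a)).toRingHom

theorem ringHomOf_z₀ {R : Type u} [CommRing R] (a : R) : ringHomOf a z₀ = a := by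
  letI := zAlg R
  show SymmetricAlgebra.lift (LinearMap.toSpanSingleton Z.{u} R a) z₀ = a
  rw [z₀, SymmetricAlgebra.lift_ι_apply, LinearMap.toSpanSingleton_apply,
    show (ULift.up 1 : Z.{u}) = 1 from rfl, one_smul]

variable {S : Scheme.{u}} {T T' : Over S}

abbrev toBaseZ (S : Scheme.{u}) : S ⟶ GmPts.baseZ := GmPts.toBaseZ S

abbrev specPt (t : T ⟶ Red.Ga S) : T.left ⟶ Spec (CommRingCat.of Coord.{u}) :=
  t.left ≫ pullback.fst Red.GaZ.hom (toBaseZ S)

/-- the ring map classified by a point -/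
def ringHomOfPt (t : T ⟶ Red.Ga S) : Coord.{u} →+* Γ(T.left, ⊤) :=
  (coordIso.inv ≫ (specPt t).appTop).hom

theorem ringHomOfPt_z₀ (t : T ⟶ Red.Ga S) : ringHomOfPt t z₀ = Red.gaFn t := rfl

/-- the map classified by a function -/
def specOf (a : Γ(T.left, ⊤)) : T.left ⟶ Spec (CommRingCat.of Coord.{u}) :=
  ΓSpec.adjunction.homEquiv T.left (op (CommRingCat.of Coord.{u})) (CommRingCat.ofHom (ringHomOf a)).op

/-- the point with a given function -/
def ptOf (a : Γ(T.left, ⊤)) : T ⟶ Red.Ga S :=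
  Over.homMk (pullback.lift (specOf a) T.hom (specULiftZIsTerminal.hom_ext _ _)) (pullback.lift_snd _ _ _)

theorem gaFn_ptOf (a : Γ(T.left, ⊤)) : Red.gaFn (ptOf a) = a := by
  rw [← ringHomOfPt_z₀]
  change (coordIso.inv ≫ ((ptOf a).left ≫ pullback.fst Red.GaZ.hom (toBaseZ S)).appTop).hom z₀ = a
  have h1 : (ptOf a).left ≫ pullback.fst Red.GaZ.hom (toBaseZ S) = specOf a := pullback.lift_fst _ _ _
  have h2 : coordIso.inv ≫ (specOf a).appTop = CommRingCat.ofHom (ringHomOf a) :=
    ΓSpecIso_inv_ΓSpec_adjunction_homEquiv _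
  rw [h1]
  exact (congrArg (fun q => (CommRingCat.Hom.hom q) z₀) h2).trans (ringHomOf_z₀ a)

theorem gaFn_injective : Function.Injective (fun t : T ⟶ Red.Ga S => Red.gaFn t) := by
  intro t t' h
  ext1
  apply pullback.hom_ext
  · apply (ΓSpec.adjunction.homEquiv T.left (op (CommRingCat.of Coord.{u}))).symm.injective
    show (ΓSpec.adjunction.homEquiv T.left (op (CommRingCat.of Coord.{u}))).symm (specPt t) =
      (ΓSpec.adjunction.homEquiv T.left (op (CommRingCat.of Coord.{u}))).symm (specPt t')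
    erw [Adjunction.homEquiv_counit, Adjunction.homEquiv_counit, ΓSpec.adjunction_counit_app]
    change (coordIso.inv ≫ (specPt t).appTop).op = (coordIso.inv ≫ (specPt t').appTop).op
    congr 1
    exact CommRingCat.hom_ext (ringHom_ext (f := ringHomOfPt t) (g := ringHomOfPt t') h)
  · exact (Over.w t).trans (Over.w t').symm

theorem gaFn_comp (g : T' ⟶ T) (t : T ⟶ Red.Ga S) :
    Red.gaFn (g ≫ t) = g.left.appTop (Red.gaFn t) := by
  change ((g ≫ t).left ≫ pullback.fst Red.GaZ.hom (toBaseZ S)).appTop Red.gaCoord = _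
  rw [Over.comp_left, Category.assoc]
  exact GmPts.appTop_comp_apply _ _ _

theorem pullback_map_left_fst {X Y : Over GmPts.baseZ.{u}} (g : X ⟶ Y) :
    ((Over.pullback (toBaseZ S)).map g).left ≫ pullback.fst Y.hom (toBaseZ S) =
      pullback.fst X.hom (toBaseZ S) ≫ g.left := by
  dsimp only [Over.pullback]
  exact pullback.lift_fst _ _ _

/-- the component to the product over the integers of a pair of points -/
def pairPt (t t' : T ⟶ Red.Ga S) : T.left ⟶ (Red.GaZ ⊗ Red.GaZ).left :=
  (lift t t').left ≫ (Functor.LaxMonoidal.μ (Over.pullback (toBaseZ S)) Red.GaZ Red.GaZ).left ≫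
    pullback.fst (Red.GaZ ⊗ Red.GaZ).hom (toBaseZ S)

theorem specPt_mul (t t' : T ⟶ Red.Ga S) : specPt (t * t') = pairPt t t' ≫ μ[Red.GaZ].left := by
  have h1 : t * t' = lift t t' ≫ μ[Red.Ga S] := Hom.mul_def t t'
  have h2 : μ[Red.Ga S] = Functor.LaxMonoidal.μ (Over.pullback (toBaseZ S)) Red.GaZ Red.GaZ ≫
      (Over.pullback (toBaseZ S)).map μ[Red.GaZ] := rfl
  have h3 := pullback_map_left_fst (S := S) μ[Red.GaZ]
  rw [specPt, pairPt, h1, h2, Over.comp_left, Over.comp_left]
  simp only [Category.assoc]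
  exact _ ≫= (_ ≫= h3)

theorem pairPt_fst (t t' : T ⟶ Red.Ga S) :
    pairPt t t' ≫ pullback.fst Red.GaZ.hom Red.GaZ.hom = specPt t := by
  rw [pairPt, Category.assoc, Category.assoc, Over.μ_pullback_left_fst_fst, ← Category.assoc]
  congr 1
  rw [← Over.fst_left, ← Over.comp_left, lift_fst]

theorem pairPt_snd (t t' : T ⟶ Red.Ga S) :
    pairPt t t' ≫ pullback.snd Red.GaZ.hom Red.GaZ.hom = specPt t' := by
  rw [pairPt, Category.assoc, Category.assoc, Over.μ_pullback_left_fst_snd, ← Category.assoc]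
  congr 1
  rw [← Over.snd_left, ← Over.comp_left, lift_snd]

theorem specMap_appTop_coordIso_inv {R : CommRingCat.{u}} (φ : CommRingCat.of Coord.{u} ⟶ R) (c : Coord.{u}) :
    (Spec.map φ).appTop (coordIso.inv c) = (Scheme.ΓSpecIso R).inv (φ c) :=
  (congrArg (fun ψ => (ConcreteCategory.hom ψ) c) (Scheme.ΓSpecIso_inv_naturality φ)).symm

theorem mul_appTop_primitive (R : Type u) [CommRing R] (C : Type u) [CommRing C] [Bialgebra R C] (z : C)
    (hz : Coalgebra.comul (R := R) z = z ⊗ₜ[R] (1 : C) + (1 : C) ⊗ₜ[R] z) :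
    let X : Over (Spec (CommRingCat.of R)) := (Spec (CommRingCat.of C)).asOver (Spec (CommRingCat.of R))
    μ[X].left.appTop ((Scheme.ΓSpecIso (CommRingCat.of C)).inv z) =
      (pullback.fst X.hom X.hom).appTop ((Scheme.ΓSpecIso (CommRingCat.of C)).inv z) +
        (pullback.snd X.hom X.hom).appTop ((Scheme.ΓSpecIso (CommRingCat.of C)).inv z) := by
  intro X
  let iL : C →+* C ⊗[R] C := Algebra.TensorProduct.includeLeftRingHom
  let iR : C →+* C ⊗[R] C :=
    ((Algebra.TensorProduct.includeRight (R := R) (A := C) (B := C) :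
      C →ₐ[R] C ⊗[R] C) : C →+* C ⊗[R] C)
  let fC : Spec (CommRingCat.of C) ⟶ (Spec (CommRingCat.of R)) :=
    Spec.map (CommRingCat.ofHom (algebraMap R C))
  let psi := pullbackSpecIso R C C
  have hfst : pullback.fst fC fC = psi.hom ≫ Spec.map (CommRingCat.ofHom iL) := by
    rw [← pullbackSpecIso_inv_fst, Iso.hom_inv_id_assoc]
  have hsnd : pullback.snd fC fC = psi.hom ≫ Spec.map (CommRingCat.ofHom iR) := by
    rw [← pullbackSpecIso_inv_snd, Iso.hom_inv_id_assoc]
  have hc : (CommRingCat.ofHom (Bialgebra.comulAlgHom R C).toRingHom) z =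
      (CommRingCat.ofHom iL) z + (CommRingCat.ofHom iR) z := hz
  have key : ∀ {P : CommRingCat.{u}} (φ : CommRingCat.of C ⟶ P) (c : C),
      (Spec.map φ).appTop ((Scheme.ΓSpecIso (CommRingCat.of C)).inv c) = (Scheme.ΓSpecIso P).inv (φ c) :=
    fun φ c => (congrArg (fun ψ => (ConcreteCategory.hom ψ) c) (Scheme.ΓSpecIso_inv_naturality φ)).symm
  change (psi.hom ≫ Spec.map (CommRingCat.ofHom (Bialgebra.comulAlgHom R C).toRingHom)).appTop
      ((Scheme.ΓSpecIso (CommRingCat.of C)).inv z) =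
    (pullback.fst fC fC).appTop ((Scheme.ΓSpecIso (CommRingCat.of C)).inv z) +
      (pullback.snd fC fC).appTop ((Scheme.ΓSpecIso (CommRingCat.of C)).inv z)
  rw [hfst, hsnd, GmPts.appTop_comp_apply, GmPts.appTop_comp_apply, GmPts.appTop_comp_apply,
    key, key, key, hc, map_add, map_add]

theorem mul_appTop_z₀ : μ[Red.GaZ].left.appTop (coordIso.inv z₀.{u}) =
    (pullback.fst Red.GaZ.hom Red.GaZ.hom).appTop (coordIso.inv z₀) +
      (pullback.snd Red.GaZ.hom Red.GaZ.hom).appTop (coordIso.inv z₀) :=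
  mul_appTop_primitive Z.{u} Coord.{u} z₀ (by simp)

/-- the function of a product of points is the sum -/
theorem gaFn_mul (t t' : T ⟶ Red.Ga S) : Red.gaFn (t * t') = Red.gaFn t + Red.gaFn t' := by
  have e1 : Red.gaFn (t * t') = (pairPt t t').appTop (μ[Red.GaZ].left.appTop (coordIso.inv z₀)) := by
    change (specPt (t * t')).appTop (coordIso.inv z₀) = _
    rw [specPt_mul]
    exact GmPts.appTop_comp_apply _ _ _
  rw [e1, mul_appTop_z₀, map_add]
  refine congrArg₂ (· + ·) ?_ ?_
  · refine (GmPts.appTop_comp_apply (pairPt t t') _ _).symm.trans ?_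
    rw [pairPt_fst]
    rfl
  · refine (GmPts.appTop_comp_apply (pairPt t t') _ _).symm.trans ?_
    rw [pairPt_snd]
    rfl

lemma one_mul_one {C : Type*} [Category C] [CartesianMonoidalCategory C] (M X : C) [MonObj M] :
    (1 : X ⟶ M) * (1 : X ⟶ M) = 1 := _root_.one_mul (1 : X ⟶ M)

theorem gaFn_one : Red.gaFn (1 : T ⟶ Red.Ga S) = 0 := by
  have h := gaFn_mul (1 : T ⟶ Red.Ga S) 1
  have h' : (1 : T ⟶ Red.Ga S) * (1 : T ⟶ Red.Ga S) = 1 := one_mul_one _ _
  rw [h'] at h
  exact left_eq_add.1 h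

end Groth.Agent.GaPts
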