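import Mathlib.AlgebraicGeometry.Morphisms.Flat
import Mathlib.RingTheory.Flat.TorsionFree
import Mathlib.Algebra.Polynomial.Laurent
import Mathlib.RingTheory.DedekindDomain.Dvr
import Mathlib.RingTheory.Flat.Rank

/-! `x ↦ f(x)` and `t ↦ tⁿ` are faithfully flat. -/

noncomputable section

universe u

open AlgebraicGeometry CategoryTheory
open scoped LaurentPolynomial

namespace Groth.Agent.GaGmKer

variable {K : Type u} [Field K]

lemma flat_surjective_of_injective {R S : Type u} [CommRing R] [IsDedekindDomain R] [CommRing S]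
    [IsDomain S] (ψ : R →+* S) (hinj : Function.Injective ψ) (hint : ψ.IsIntegral) :
    Flat (Spec.map (CommRingCat.ofHom ψ)) ∧ Surjective (Spec.map (CommRingCat.ofHom ψ)) := by
  rw [flat_and_surjective_SpecMap_iff, CommRingCat.hom_ofHom,
    RingHom.FaithfullyFlat.iff_flat_and_comap_surjective]
  let := ψ.toAlgebra
  have : FaithfulSMul R S := (faithfulSMul_iff_algebraMap_injective R S).2 hinj
  constructor
  · have : Module.IsTorsionFree R S := by
      refine ⟨fun r hr a b hab => ?_⟩
      simp only [Algebra.smul_def] at hab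
      exact mul_left_cancel₀ (fun h0 => hr.ne_zero (hinj (h0.trans (map_zero ψ).symm))) hab
    show Module.Flat R S
    infer_instance
  · have : Algebra.IsIntegral R S := ⟨hint⟩
    show Function.Surjective (PrimeSpectrum.comap (algebraMap R S))
    exact Algebra.IsIntegral.comap_surjective _ _

open Polynomial in
lemma flat_surjective_comp {f : K[X]} (hf : f.Monic) (hn : 0 < f.natDegree) :
    Flat (Spec.map (CommRingCat.ofHom (eval₂RingHom C f))) ∧
      Surjective (Spec.map (CommRingCat.ofHom (eval₂RingHom C f))) := by
  refine flat_surjective_of_injective _ ?_ ?_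
  · rw [injective_iff_map_eq_zero]
    intro p hp
    have : p.comp f = 0 := hp
    rcases comp_eq_zero_iff.1 this with h | ⟨-, h⟩
    · exact h
    · rw [h, natDegree_C] at hn
      exact absurd hn (lt_irrefl 0)
  · let ψ : K[X] →+* K[X] := eval₂RingHom C f
    have hX : ψ.IsIntegralElem (X : K[X]) := by
      refine ⟨f.map C - C X, ?_, ?_⟩
      · refine (hf.map C).sub_of_left (lt_of_le_of_lt degree_C_le ?_)
        rw [degree_map_eq_of_injective C_injective, degree_eq_natDegree hf.ne_zero]
        exact_mod_cast hn
      · have hψC : ψ.comp C = C := RingHom.ext fun a => eval₂_C C f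
        rw [eval₂_sub, eval₂_map, eval₂_C, hψC, eval₂_C_X]
        simp [ψ]
    intro p
    induction p using Polynomial.induction_on' with
    | add p q hp hq => exact hp.add ψ hq
    | monomial k a =>
      rw [← C_mul_X_pow_eq_monomial]
      refine RingHom.IsIntegralElem.mul ψ ?_ ?_
      · have : C a = ψ (C a) := (eval₂_C C f).symm
        rw [this]
        exact ψ.isIntegralElem_map
      · letI := ψ.toAlgebra
        exact IsIntegral.pow (R := K[X]) hX k

open LaurentPolynomial in
lemma flat_surjective_pow {n : ℕ} (hn : 0 < n) (ψ : K[T;T⁻¹] →+* K[T;T⁻¹])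
    (hC : ∀ a, ψ (LaurentPolynomial.C a) = LaurentPolynomial.C a)
    (hT : ∀ j : ℤ, ψ (LaurentPolynomial.T j) = LaurentPolynomial.T (j * n)) :
    Flat (Spec.map (CommRingCat.ofHom ψ)) ∧ Surjective (Spec.map (CommRingCat.ofHom ψ)) := by
  haveI : IsDedekindDomain K[T;T⁻¹] :=
    IsLocalization.isDedekindDomain (Polynomial K) (M := Submonoid.powers (Polynomial.X : Polynomial K))
      (powers_le_nonZeroDivisors_of_noZeroDivisors Polynomial.X_ne_zero) _
  have hψ : ∀ p, ψ p = AddMonoidAlgebra.mapDomain (fun j : ℤ => j * (n : ℤ)) p := by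
    intro p
    induction p using LaurentPolynomial.induction_on' with
    | add p q hp hq => rw [map_add, hp, hq, AddMonoidAlgebra.mapDomain_add]
    | C_mul_T j a =>
      rw [map_mul, hC, hT, ← single_eq_C_mul_T, ← single_eq_C_mul_T,
        AddMonoidAlgebra.mapDomain_single]
  refine flat_surjective_of_injective ψ ?_ ?_
  · intro p q hpq
    rw [hψ, hψ] at hpq
    exact AddMonoidAlgebra.mapDomain_injective
      (mul_left_injective₀ (by exact_mod_cast hn.ne')) hpq
  · intro p
    induction p using LaurentPolynomial.induction_on' with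
    | add p q hp hq => exact hp.add ψ hq
    | C_mul_T j a =>
      refine RingHom.IsIntegralElem.mul ψ ?_ ?_
      · rw [← hC a]
        exact ψ.isIntegralElem_map
      · refine ⟨Polynomial.X ^ n - Polynomial.C (T j), Polynomial.monic_X_pow_sub_C _ hn.ne', ?_⟩
        rw [Polynomial.eval₂_sub, Polynomial.eval₂_X_pow, Polynomial.eval₂_C, hT, T_pow, sub_eq_zero]
        congr 1
        ring

end Groth.Agent.GaGmKer
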