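import Groth.Agent.GaGmKerLib.Pts
import Groth.Agent.GaGmKerLib.GaPts
import Groth.Agent.GaGmKerLib.FlatMaps
import Groth.Prelude.Def_GmPts

/-! Finite subgroups of `𝔾ₐ`, `𝔾ₘ` over a field are kernels of faithfully flat endomorphisms. -/

noncomputable section

universe u

open CategoryTheory MonoidalCategory CartesianMonoidalCategory MonObj GrpObj AlgebraicGeometry

namespace Groth.Agent.GaGmKer

open Polynomial
open scoped LaurentPolynomial

variable {K : Type u} [Field K]

section general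

variable {G : Over (Spec (CommRingCat.of K))} [GrpObj G]

/-- an endomorphism is a homomorphism when it is one on points -/
lemma isMonHom_of_points (c : Coordinate G) (φ : G ⟶ G)
    (h : ∀ (T : Over (Spec (CommRingCat.of K))) (x y : T ⟶ G), c.fn ((x * y) ≫ φ) = c.fn ((x ≫ φ) * (y ≫ φ)))
    (h1 : ∀ (T : Over (Spec (CommRingCat.of K))), c.fn ((1 : T ⟶ G) ≫ φ) = c.fn (1 : T ⟶ G)) :
    IsMonHom φ where
  one_hom := by
    apply c.fn_inj
    have e : (η[G] : 𝟙_ _ ⟶ G) = (1 : 𝟙_ _ ⟶ G) := by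
      rw [Hom.one_def, show toUnit (𝟙_ (Over (Spec (CommRingCat.of K)))) = 𝟙 _ from toUnit_unique _ _,
        Category.id_comp]
    rw [e]
    exact h1 _
  mul_hom := by
    apply c.fn_inj
    have e : (μ[G] : G ⊗ G ⟶ G) = fst G G * snd G G := by
      rw [Hom.mul_def, lift_fst_snd, Category.id_comp]
    conv_lhs => rw [e, h]
    congr 1

end general

abbrev base (K : Type u) [Field K] : Scheme.{u} := Spec (CommRingCat.of K)

def gaCoordinate (K : Type u) [Field K] : Coordinate (Red.Ga (base K)) where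
  fn x := Red.gaFn x
  fn_comp g x := GaPts.gaFn_comp g x
  fn_inj := fun h => GaPts.gaFn_injective h

def gmCoordinate (K : Type u) [Field K] : Coordinate (Red.Gm (base K)) where
  fn x := Red.gmFn x
  fn_comp g x := GmPts.gmFn_comp g x
  fn_inj := fun h => GmPts.gmFn_injective h

theorem ga_main {H : Over (base K)} [GrpObj H] (i : H ⟶ Red.Ga (base K))
    [IsMonHom i] [Mono i] [IsFinite H.hom] :
    ∃ φ : Red.Ga (base K) ⟶ Red.Ga (base K), IsMonHom φ ∧ AlgGrp.IsKernel i φ ∧ Flat φ.left ∧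
      Surjective φ.left := by
  let G := Red.Ga (base K)
  obtain ⟨f, hf, hfi, hdvd, hfac⟩ := exists_poly (gaCoordinate K) i
  have hroot : ∀ (T : Over (base K)) (a b : Γ(T.left, ⊤)), f.eval₂ (algMap T) a = 0 →
      f.eval₂ (algMap T) b = 0 → f.eval₂ (algMap T) (a + b) = 0 := by
    intro T a b ha hb
    obtain ⟨g, rfl⟩ := hfac T a ha
    obtain ⟨g', rfl⟩ := hfac T b hb
    have := eval_mul_eq_zero (gaCoordinate K) i hfi g g'
    exact (congrArg (f.eval₂ (algMap T)) (GaPts.gaFn_mul (g ≫ i) (g' ≫ i))).symm.trans this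
  have hzero : ∀ (T : Over (base K)), f.eval₂ (algMap T) 0 = 0 := fun T => by
    have := eval_one_eq_zero (gaCoordinate K) i hfi T
    exact (congrArg (f.eval₂ (algMap T)) GaPts.gaFn_one).symm.trans this
  have h0 : f.coeff 0 = 0 := by
    have h := hzero (specOver (RingHom.id K))
    rw [algMap_specOver, RingHom.comp_id, eval₂_at_zero] at h
    exact (γ_bijective (RingHom.id K)).1 (h.trans (map_zero _).symm)
  have hpoly : (f.map C).comp (X + C X) = f.map C + C f := by
    apply additive_of_eval_add hf h0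
    apply (γ_bijective (θ₂ f)).1
    rw [map_zero, hom_eval₂, ← algMap_specOver, map_add]
    apply hroot
    · rw [algMap_specOver, ← hom_eval₂, eval_rootL, map_zero]
    · rw [algMap_specOver, ← hom_eval₂, eval_rootR, map_zero]
  have hn : 0 < f.natDegree := by
    by_contra hn
    rw [(Monic.natDegree_eq_zero hf).1 (by omega)] at h0
    simp at h0
  let φ : G ⟶ G := GaPts.ptOf (f.eval₂ (algMap G) (Red.gaFn (𝟙 G)))
  have hφ : ∀ (T : Over (base K)) (x : T ⟶ G), Red.gaFn (x ≫ φ) = f.eval₂ (algMap T) (Red.gaFn x) := by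
    intro T x
    rw [GaPts.gaFn_comp, GaPts.gaFn_ptOf, appTop_eval₂, ← GaPts.gaFn_comp, Category.comp_id]
  haveI : IsMonHom φ := by
    apply isMonHom_of_points (gaCoordinate K)
    · intro T x y
      show Red.gaFn _ = Red.gaFn _
      rw [hφ, GaPts.gaFn_mul, GaPts.gaFn_mul, hφ, hφ, eval_add_of_additive hpoly]
    · intro T
      show Red.gaFn _ = Red.gaFn _
      rw [hφ, GaPts.gaFn_one, hzero]
  have hker : AlgGrp.IsKernel i φ := by
    apply isKernel_of_iff (gaCoordinate K) i hfi hfac φ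
    intro T x
    rw [← (gaCoordinate K).fn_inj.eq_iff]
    show Red.gaFn (x ≫ φ) = Red.gaFn (1 : T ⟶ G) ↔ _
    rw [hφ, GaPts.gaFn_one]
    rfl
  -- the model `Spec K[X]`
  let Q : Over (base K) := specOver (C : K →+* K[X])
  have : IsAffine Q.left := inferInstanceAs (IsAffine (Spec _))
  let p₀ : Q ⟶ G := GaPts.ptOf (γ C X)
  let ρ : Γ(Q.left, ⊤) →+* Γ(G.left, ⊤) :=
    (eval₂RingHom (algMap G) (Red.gaFn (𝟙 G))).comp (Scheme.ΓSpecIso (CommRingCat.of K[X])).hom.hom
  have hρ : ∀ q, ρ (γ C q) = q.eval₂ (algMap G) (Red.gaFn (𝟙 G)) := fun q => by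
    show eval₂RingHom _ _ ((Scheme.ΓSpecIso (CommRingCat.of K[X])).hom
      ((Scheme.ΓSpecIso (CommRingCat.of K[X])).inv q)) = _
    rw [Iso.inv_hom_id_apply]
    rfl
  let r : G ⟶ Q := homOf ρ (by
    rw [algMap_specOver]
    exact RingHom.ext fun a => (hρ (C a)).trans (eval₂_C _ _))
  have hr1 : r ≫ p₀ = 𝟙 G := by
    apply (gaCoordinate K).fn_inj
    show Red.gaFn _ = Red.gaFn _
    rw [GaPts.gaFn_comp, GaPts.gaFn_ptOf, homOf_appTop, hρ, eval₂_X]
  have hr2 : p₀ ≫ r = 𝟙 Q := by
    apply hom_ext_of_appTop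
    have key : (p₀.left.appTop.hom.comp ρ).comp (γ C) = (γ C : K[X] →+* _) := by
      apply Polynomial.ringHom_ext
      · intro a
        show p₀.left.appTop (ρ (γ C (C a))) = γ C (C a)
        rw [hρ, eval₂_C]
        exact (RingHom.congr_fun (algMap_comp p₀) a).trans (RingHom.congr_fun (algMap_specOver C) a)
      · show p₀.left.appTop (ρ (γ C X)) = γ C X
        rw [hρ, eval₂_X, ← GaPts.gaFn_comp, Category.comp_id, GaPts.gaFn_ptOf]
    intro a
    obtain ⟨q, rfl⟩ := (γ_bijective (C : K →+* K[X])).2 a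
    rw [Over.comp_left, GmPts.appTop_comp_apply, homOf_appTop]
    simp only [Over.id_left, Scheme.Hom.id_appTop, CommRingCat.id_apply]
    exact RingHom.congr_fun key q
  let Ψ : Q ⟶ Q := Over.homMk (Spec.map (CommRingCat.ofHom (eval₂RingHom C f))) (by
    show Spec.map _ ≫ Spec.map _ = Spec.map _
    rw [← Spec.map_comp]
    congr 1
    ext a : 2
    exact eval₂_C C f)
  have hΨ : p₀ ≫ φ = Ψ ≫ p₀ := by
    apply (gaCoordinate K).fn_inj
    show Red.gaFn _ = Red.gaFn _
    rw [hφ, GaPts.gaFn_ptOf, GaPts.gaFn_comp, GaPts.gaFn_ptOf]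
    show _ = (Spec.map (CommRingCat.ofHom (eval₂RingHom C f))).appTop (γ C X)
    have := congrArg (fun ψ => (ConcreteCategory.hom ψ) (X : K[X]))
      (Scheme.ΓSpecIso_inv_naturality (CommRingCat.ofHom (eval₂RingHom (C : K →+* K[X]) f)))
    refine Eq.trans ?_ this
    show f.eval₂ (algMap Q) (γ C X) = γ C ((X : K[X]).eval₂ C f)
    rw [eval₂_X, algMap_specOver, ← hom_eval₂, eval₂_C_X]
  have hφeq : φ.left = r.left ≫ (Spec.map (CommRingCat.ofHom (eval₂RingHom C f)) ≫ p₀.left) := by
    have : φ = r ≫ Ψ ≫ p₀ := by rw [← hΨ, ← Category.assoc, hr1, Category.id_comp]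
    rw [this]
    rfl
  have : IsIso r := ⟨p₀, hr1, hr2⟩
  have : IsIso p₀ := ⟨r, hr2, hr1⟩
  have : IsIso r.left := inferInstanceAs (IsIso ((Over.forget _).map r))
  have : IsIso p₀.left := inferInstanceAs (IsIso ((Over.forget _).map p₀))
  obtain ⟨h1, h2⟩ := flat_surjective_comp hf hn
  refine ⟨φ, inferInstance, hker, ?_, ?_⟩
  · rw [hφeq]
    infer_instance
  · rw [hφeq]
    infer_instance

theorem gm_main {H : Over (base K)} [GrpObj H] (i : H ⟶ Red.Gm (base K))
    [IsMonHom i] [Mono i] [IsFinite H.hom] :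
    ∃ φ : Red.Gm (base K) ⟶ Red.Gm (base K), IsMonHom φ ∧ AlgGrp.IsKernel i φ ∧ Flat φ.left ∧
      Surjective φ.left := by
  let G := Red.Gm (base K)
  obtain ⟨f, hf, hfi, hdvd, hfac⟩ := exists_poly (gmCoordinate K) i
  have hroot : ∀ (T : Over (base K)) (a b : Γ(T.left, ⊤)), f.eval₂ (algMap T) a = 0 →
      f.eval₂ (algMap T) b = 0 → f.eval₂ (algMap T) (a * b) = 0 := by
    intro T a b ha hb
    obtain ⟨g, rfl⟩ := hfac T a ha
    obtain ⟨g', rfl⟩ := hfac T b hb
    have := eval_mul_eq_zero (gmCoordinate K) i hfi g g'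
    exact (congrArg (f.eval₂ (algMap T)) (GmPts.gmFn_mul (g ≫ i) (g' ≫ i))).symm.trans this
  have hone : ∀ (T : Over (base K)), f.eval₂ (algMap T) 1 = 0 := fun T => by
    have := eval_one_eq_zero (gmCoordinate K) i hfi T
    exact (congrArg (f.eval₂ (algMap T)) GmPts.gmFn_one).symm.trans this
  have h1 : f.eval 1 = 0 := by
    have h := hone (specOver (RingHom.id K))
    rw [algMap_specOver, ← map_one (γ (RingHom.id K)), ← hom_eval₂, ← map_zero (γ (RingHom.id K))] at h
    exact (γ_bijective (RingHom.id K)).1 h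
  have h0 : f.coeff 0 ≠ 0 := by
    intro h0
    obtain ⟨q, hq⟩ : X ∣ f := X_dvd_iff.2 h0
    have hu : IsUnit ((gmCoordinate K).fn i) := GmPts.isUnit_gmFn i
    have hqi : q.eval₂ (algMap H) ((gmCoordinate K).fn i) = 0 := by
      have := hfi
      rw [hq, eval₂_mul, eval₂_X] at this
      exact hu.mul_right_eq_zero.1 this
    have hq0 : q ≠ 0 := by
      rintro rfl
      exact hf.ne_zero (by simpa using hq)
    have := natDegree_le_of_dvd (hdvd q hqi) hq0
    rw [hq, natDegree_mul X_ne_zero hq0, natDegree_X] at this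
    omega
  have hfn : f = X ^ f.natDegree - 1 := by
    apply eq_X_pow_sub_one_of_eval_mul hf h0 h1
    apply (γ_bijective (θ₂ f)).1
    rw [map_zero, hom_eval₂, ← algMap_specOver, map_mul]
    apply hroot
    · rw [algMap_specOver, ← hom_eval₂, eval_rootL, map_zero]
    · rw [algMap_specOver, ← hom_eval₂, eval_rootR, map_zero]
  have hn : 0 < f.natDegree := by
    by_contra hn
    rw [(Monic.natDegree_eq_zero hf).1 (by omega)] at h1
    simp at h1
  let n := f.natDegree
  have hev : ∀ (T : Over (base K)) (a : Γ(T.left, ⊤)), f.eval₂ (algMap T) a = a ^ n - 1 := fun T a => by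
    conv_lhs => rw [hfn]
    simp [n]
  let φ : G ⟶ G := GmPts.ptOfUnit (GmPts.unitOfPt (𝟙 G) ^ n)
  have hφ : ∀ (T : Over (base K)) (x : T ⟶ G), Red.gmFn (x ≫ φ) = Red.gmFn x ^ n := by
    intro T x
    rw [GmPts.gmFn_comp, GmPts.gmFn_ptOfUnit, Units.val_pow_eq_pow_val, GmPts.val_unitOfPt, map_pow,
      ← GmPts.gmFn_comp, Category.comp_id]
  haveI : IsMonHom φ := by
    apply isMonHom_of_points (gmCoordinate K)
    · intro T x y
      show Red.gmFn _ = Red.gmFn _
      rw [hφ, GmPts.gmFn_mul, GmPts.gmFn_mul, hφ, hφ, mul_pow]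
    · intro T
      show Red.gmFn _ = Red.gmFn _
      rw [hφ, GmPts.gmFn_one, one_pow]
  have hker : AlgGrp.IsKernel i φ := by
    apply isKernel_of_iff (gmCoordinate K) i hfi hfac φ
    intro T x
    rw [← (gmCoordinate K).fn_inj.eq_iff]
    show Red.gmFn (x ≫ φ) = Red.gmFn (1 : T ⟶ G) ↔ _
    rw [hφ, GmPts.gmFn_one, hev, sub_eq_zero]
    rfl
  -- the model `Spec K[T, T⁻¹]`
  let Q : Over (base K) := specOver (LaurentPolynomial.C : K →+* K[T;T⁻¹])
  let tU : (K[T;T⁻¹])ˣ := (LaurentPolynomial.isUnit_T 1).unit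
  have : IsAffine Q.left := inferInstanceAs (IsAffine (Spec _))
  let p₀ : Q ⟶ G := GmPts.ptOfUnit (Units.map (γ (LaurentPolynomial.C : K →+* K[T;T⁻¹])).toMonoidHom tU)
  have hp₀ : Red.gmFn p₀ = γ LaurentPolynomial.C (LaurentPolynomial.T 1) := GmPts.gmFn_ptOfUnit _
  let ρ : Γ(Q.left, ⊤) →+* Γ(G.left, ⊤) :=
    (LaurentPolynomial.eval₂ (algMap G) (GmPts.unitOfPt (𝟙 G))).comp
      (Scheme.ΓSpecIso (CommRingCat.of K[T;T⁻¹])).hom.hom
  have hρ : ∀ q, ρ (γ LaurentPolynomial.C q) =
      LaurentPolynomial.eval₂ (algMap G) (GmPts.unitOfPt (𝟙 G)) q := fun q => by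
    show LaurentPolynomial.eval₂ _ _ ((Scheme.ΓSpecIso (CommRingCat.of K[T;T⁻¹])).hom
      ((Scheme.ΓSpecIso (CommRingCat.of K[T;T⁻¹])).inv q)) = _
    rw [Iso.inv_hom_id_apply]
  let r : G ⟶ Q := homOf ρ (by
    rw [algMap_specOver]
    exact RingHom.ext fun a => (hρ (LaurentPolynomial.C a)).trans (LaurentPolynomial.eval₂_C _ _ _))
  have hr1 : r ≫ p₀ = 𝟙 G := by
    apply (gmCoordinate K).fn_inj
    show Red.gmFn _ = Red.gmFn _
    rw [GmPts.gmFn_comp, hp₀, homOf_appTop, hρ, LaurentPolynomial.eval₂_T, zpow_one]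
    rfl
  have hr2 : p₀ ≫ r = 𝟙 Q := by
    apply hom_ext_of_appTop
    have key : ∀ q : K[T;T⁻¹], p₀.left.appTop (ρ (γ LaurentPolynomial.C q)) = γ LaurentPolynomial.C q := by
      intro q
      induction q using LaurentPolynomial.induction_on' with
      | add p q hp hq => simp only [map_add, hp, hq]
      | C_mul_T j a =>
        rw [hρ, map_mul, LaurentPolynomial.eval₂_C, LaurentPolynomial.eval₂_T, map_mul, map_mul]
        congr 1
        · exact (RingHom.congr_fun (algMap_comp p₀) a).trans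
            (RingHom.congr_fun (algMap_specOver LaurentPolynomial.C) a)
        · have e1 : Units.map p₀.left.appTop.hom.toMonoidHom (GmPts.unitOfPt (𝟙 G)) =
              GmPts.unitOfPt p₀ := by
            rw [← GmPts.unitOfPt_comp, Category.comp_id]
          have e2 : ((tU ^ j : (K[T;T⁻¹])ˣ) : K[T;T⁻¹]) = LaurentPolynomial.T j := by
            have : ∀ m : ℤ, ((tU ^ m : (K[T;T⁻¹])ˣ) : K[T;T⁻¹]) = LaurentPolynomial.T m := by
              intro m
              induction m using Int.induction_on with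
              | zero => simp
              | succ m ih =>
                rw [zpow_add_one, Units.val_mul, ih, LaurentPolynomial.T_add]
                rfl
              | pred m ih =>
                rw [zpow_sub_one, Units.val_mul, ih, sub_eq_add_neg, LaurentPolynomial.T_add]
                congr 1
                refine Units.inv_eq_of_mul_eq_one_right ?_
                show LaurentPolynomial.T 1 * _ = 1
                rw [← LaurentPolynomial.T_add]
                simp
            exact this j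
          calc p₀.left.appTop ((GmPts.unitOfPt (𝟙 G) ^ j : (Γ(G.left, ⊤))ˣ) : Γ(G.left, ⊤))
              = ((Units.map p₀.left.appTop.hom.toMonoidHom (GmPts.unitOfPt (𝟙 G)) ^ j :
                  (Γ(Q.left, ⊤))ˣ) : Γ(Q.left, ⊤)) := by rw [← map_zpow]; rfl
            _ = γ LaurentPolynomial.C (LaurentPolynomial.T j) := by
              rw [e1, GmPts.unitOfPt_ptOfUnit, ← map_zpow, Units.coe_map, e2]
              rfl
    intro a
    obtain ⟨q, rfl⟩ := (γ_bijective (LaurentPolynomial.C : K →+* K[T;T⁻¹])).2 a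
    rw [Over.comp_left, GmPts.appTop_comp_apply, homOf_appTop]
    simp only [Over.id_left, Scheme.Hom.id_appTop, CommRingCat.id_apply]
    exact key q
  let ψ : K[T;T⁻¹] →+* K[T;T⁻¹] := LaurentPolynomial.eval₂ LaurentPolynomial.C (tU ^ n)
  have hψC : ∀ a, ψ (LaurentPolynomial.C a) = LaurentPolynomial.C a :=
    LaurentPolynomial.eval₂_C _ _
  have hψT : ∀ j : ℤ, ψ (LaurentPolynomial.T j) = LaurentPolynomial.T (j * n) := by
    intro j
    induction j using Int.induction_on with
    | zero => simp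
    | succ m ih =>
      rw [LaurentPolynomial.T_add, map_mul, ih, LaurentPolynomial.eval₂_T, zpow_one,
        Units.val_pow_eq_pow_val, IsUnit.unit_spec, LaurentPolynomial.T_pow, ← LaurentPolynomial.T_add]
      congr 1
      ring
    | pred m ih =>
      have hT : ψ (LaurentPolynomial.T 1) = LaurentPolynomial.T (n : ℤ) := by
        rw [LaurentPolynomial.eval₂_T, zpow_one, Units.val_pow_eq_pow_val, IsUnit.unit_spec,
          LaurentPolynomial.T_pow, _root_.mul_one]
      apply (LaurentPolynomial.isUnit_T (n : ℤ)).mul_left_injective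
      show ψ _ * _ = _ * LaurentPolynomial.T (n : ℤ)
      rw [← LaurentPolynomial.T_add]
      conv_lhs => rw [← hT, ← map_mul, ← LaurentPolynomial.T_add, sub_add_cancel, ih]
      congr 1
      ring
  let Ψ : Q ⟶ Q := Over.homMk (Spec.map (CommRingCat.ofHom ψ)) (by
    show Spec.map _ ≫ Spec.map _ = Spec.map _
    rw [← Spec.map_comp]
    congr 1
    ext a : 2
    exact hψC a)
  have hΨ : p₀ ≫ φ = Ψ ≫ p₀ := by
    apply (gmCoordinate K).fn_inj
    show Red.gmFn _ = Red.gmFn _
    rw [hφ, GmPts.gmFn_comp, hp₀]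
    show _ = (Spec.map (CommRingCat.ofHom ψ)).appTop (γ LaurentPolynomial.C (LaurentPolynomial.T 1))
    have := congrArg (fun ξ => (ConcreteCategory.hom ξ) (LaurentPolynomial.T 1 : K[T;T⁻¹]))
      (Scheme.ΓSpecIso_inv_naturality (CommRingCat.ofHom ψ))
    refine Eq.trans ?_ this
    show _ = γ LaurentPolynomial.C (ψ (LaurentPolynomial.T 1))
    rw [← map_pow, hψT, LaurentPolynomial.T_pow, _root_.mul_one, _root_.one_mul]
  have hφeq : φ.left = r.left ≫ (Spec.map (CommRingCat.ofHom ψ) ≫ p₀.left) := by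
    have : φ = r ≫ Ψ ≫ p₀ := by rw [← hΨ, ← Category.assoc, hr1, Category.id_comp]
    rw [this]
    rfl
  have : IsIso r := ⟨p₀, hr1, hr2⟩
  have : IsIso p₀ := ⟨r, hr2, hr1⟩
  have : IsIso r.left := inferInstanceAs (IsIso ((Over.forget _).map r))
  have : IsIso p₀.left := inferInstanceAs (IsIso ((Over.forget _).map p₀))
  obtain ⟨h1, h2⟩ := flat_surjective_pow hn ψ hψC hψT
  refine ⟨φ, inferInstance, hker, ?_, ?_⟩
  · rw [hφeq]
    infer_instance
  · rw [hφeq]
    infer_instance

end Groth.Agent.GaGmKer
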