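import Mathlib.RingTheory.AdjoinRoot
import Mathlib.Algebra.Polynomial.Taylor
import Mathlib.Algebra.Polynomial.FieldDivision

/-! Monic polynomials whose root scheme is a subgroup of `𝔾ₐ` or `𝔾ₘ`. -/

noncomputable section

universe u v

namespace Groth.Agent.GaGmKer

open Polynomial

variable {K : Type u} [Field K]

/-- the universal ring with two roots of `f` -/
abbrev R₂ (f : K[X]) : Type u := AdjoinRoot (f.map (algebraMap K (AdjoinRoot f)))

def rootL (f : K[X]) : R₂ f := AdjoinRoot.of _ (AdjoinRoot.root f)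

def rootR (f : K[X]) : R₂ f := AdjoinRoot.root _

def θ₂ (f : K[X]) : K →+* R₂ f := (AdjoinRoot.of _).comp (AdjoinRoot.of f)

lemma eval_rootL (f : K[X]) : f.eval₂ (θ₂ f) (rootL f) = 0 := by
  rw [θ₂, rootL, ← hom_eval₂, AdjoinRoot.eval₂_root, map_zero]

lemma eval_rootR (f : K[X]) : f.eval₂ (θ₂ f) (rootR f) = 0 := by
  rw [θ₂, rootR, ← eval₂_map]
  exact AdjoinRoot.eval₂_root _

lemma dvd_of_eval_rootR {f : K[X]} {g : (AdjoinRoot f)[X]}
    (h : g.eval₂ (AdjoinRoot.of _) (rootR f) = 0) :
    f.map (algebraMap K (AdjoinRoot f)) ∣ g := by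
  have : AdjoinRoot.mk (f.map (algebraMap K (AdjoinRoot f))) g = 0 := by
    rw [← h, rootR, ← AdjoinRoot.aeval_eq g]
    rfl
  exact AdjoinRoot.mk_eq_zero.1 this

lemma eq_zero_of_dvd_of_natDegree_lt {A : Type v} [CommRing A] {q g : A[X]} (hq : q.Monic)
    (hdvd : q ∣ g) (hdeg : ∀ j, q.natDegree ≤ j → g.coeff j = 0) : g = 0 := by
  by_contra hg
  have : Nontrivial A := Polynomial.nontrivial_iff.1 ⟨g, 0, hg⟩
  have h1 : g.natDegree < q.natDegree := by
    by_contra h
    exact leadingCoeff_ne_zero.2 hg (hdeg _ (not_lt.1 h))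
  exact hg (((modByMonic_eq_self_iff hq).2 (degree_lt_degree h1)).symm.trans
    ((modByMonic_eq_zero_iff_dvd hq).2 hdvd))

/-- A monic polynomial whose roots form an additive group is additive. -/
lemma additive_of_eval_add {f : K[X]} (hf : f.Monic) (h0 : f.coeff 0 = 0)
    (h : f.eval₂ (θ₂ f) (rootL f + rootR f) = 0) :
    (f.map C).comp (X + C X) = f.map C + C f := by
  let n := f.natDegree
  let D : K[X][X] := (f.map C).comp (X + C X) - f.map C - C f
  suffices D = 0 by
    have : (f.map C).comp (X + C X) - f.map C - C f = 0 := this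
    linear_combination this
  have hn : n ≠ 0 := by
    intro hn
    rw [(Monic.natDegree_eq_zero hf).1 hn] at h0
    simp at h0
  have hcoef : ∀ j, ((f.map C).comp (X + C X)).coeff j = hasseDeriv j f := by
    intro j
    rw [← taylor_apply, taylor_coeff]
    have hmap : hasseDeriv j (f.map C) = (hasseDeriv j f).map C := by
      ext i : 1
      simp [hasseDeriv_coeff, coeff_map]
    rw [hmap, eval_map, eval₂_C_X]
  have hDn : ∀ j, n ≤ j → D.coeff j = 0 := by
    intro j hj
    simp only [D, coeff_sub, coeff_map, hcoef, coeff_C, if_neg (by omega : ¬ j = 0), sub_zero]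
    rcases eq_or_lt_of_le hj with rfl | hlt
    · have : hasseDeriv n f = C 1 := by
        rw [eq_C_of_natDegree_le_zero (le_trans (natDegree_hasseDeriv_le f n) (by simp [n]))]
        rw [hasseDeriv_coeff, zero_add, Nat.choose_self, Nat.cast_one, one_mul]
        exact congrArg C hf.coeff_natDegree
      rw [this, hf.coeff_natDegree, map_one, sub_self]
    · rw [hasseDeriv_eq_zero_of_lt_natDegree f j hlt, coeff_eq_zero_of_natDegree_lt hlt, map_zero,
        sub_zero]
  have : Nontrivial (AdjoinRoot f) := AdjoinRoot.nontrivial f fun h =>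
    hn (natDegree_eq_of_degree_eq_some h)
  let π : K[X] →+* AdjoinRoot f := AdjoinRoot.mk f
  have hπC : π.comp C = AdjoinRoot.of f := RingHom.ext fun a => AdjoinRoot.mk_C a
  have hmapD : D.map π = 0 := by
    apply eq_zero_of_dvd_of_natDegree_lt (hf.map (algebraMap K (AdjoinRoot f)))
    · apply dvd_of_eval_rootR
      rw [eval₂_map]
      simp only [D, eval₂_sub, eval₂_comp, eval₂_map, eval₂_add, eval₂_X, eval₂_C]
      have e : ((AdjoinRoot.of (f.map (algebraMap K (AdjoinRoot f)))).comp π).comp C = θ₂ f := by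
        rw [RingHom.comp_assoc, hπC]
        rfl
      have eX : ((AdjoinRoot.of (f.map (algebraMap K (AdjoinRoot f)))).comp π) X = rootL f := by
        rw [RingHom.comp_apply]
        simp [π, rootL]
      have ef : ((AdjoinRoot.of (f.map (algebraMap K (AdjoinRoot f)))).comp π) f = 0 := by
        rw [RingHom.comp_apply]
        exact (congrArg _ AdjoinRoot.mk_self).trans (map_zero _)
      rw [e, eX, ef, add_comm, h, eval_rootR]
      refine (congrArg₂ (· - ·) (sub_zero _) rfl).trans ?_
      exact sub_zero _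
    · intro j hj
      rw [natDegree_map] at hj
      rw [coeff_map, hDn j hj, map_zero]
  ext j : 1
  rw [coeff_zero]
  rcases Nat.lt_or_ge j n with hj | hj
  · rcases Nat.eq_zero_or_pos j with rfl | hj0
    · simp [D, hcoef, h0]
    · have hdiv : f ∣ D.coeff j := by
        rw [← AdjoinRoot.mk_eq_zero]
        have := congrArg (fun p => p.coeff j) hmapD
        simp only [coeff_map, coeff_zero] at this
        exact this
      have hdeg : (D.coeff j).natDegree < n := by
        simp only [D, coeff_sub, coeff_map, hcoef, coeff_C, if_neg hj0.ne', sub_zero]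
        refine lt_of_le_of_lt (natDegree_sub_le _ _) ?_
        rw [natDegree_C, max_lt_iff]
        exact ⟨lt_of_le_of_lt (natDegree_hasseDeriv_le f j) (by omega), by omega⟩
      exact eq_zero_of_dvd_of_natDegree_lt hf hdiv fun i hi =>
        coeff_eq_zero_of_natDegree_lt (lt_of_lt_of_le hdeg hi)
  · exact hDn j hj

lemma eval_add_of_additive {f : K[X]} (hadd : (f.map C).comp (X + C X) = f.map C + C f)
    {S : Type v} [CommRing S] (θ : K →+* S) (a b : S) :
    f.eval₂ θ (a + b) = f.eval₂ θ a + f.eval₂ θ b := by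
  have h := congrArg (eval₂ (eval₂RingHom θ b) a) hadd
  have e : (eval₂RingHom θ b).comp C = θ := RingHom.ext fun x => eval₂_C θ b
  simp only [eval₂_comp, eval₂_add, eval₂_map, e, eval₂_X, eval₂_C, coe_eval₂RingHom] at h
  exact h

/-- A monic polynomial prime to `X` whose roots form a multiplicative group is `X ^ n - 1`. -/
lemma eq_X_pow_sub_one_of_eval_mul {f : K[X]} (hf : f.Monic) (h0 : f.coeff 0 ≠ 0)
    (h1 : f.eval 1 = 0) (h : f.eval₂ (θ₂ f) (rootL f * rootR f) = 0) :
    f = X ^ f.natDegree - 1 := by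
  let n := f.natDegree
  have hn : 0 < n := by
    by_contra hn
    rw [(Monic.natDegree_eq_zero hf).1 (by omega)] at h1
    simp at h1
  have : Nontrivial (AdjoinRoot f) := AdjoinRoot.nontrivial f fun h =>
    hn.ne' (natDegree_eq_of_degree_eq_some h)
  let α := AdjoinRoot.root f
  let fA : (AdjoinRoot f)[X] := f.map (algebraMap K (AdjoinRoot f))
  let D : (AdjoinRoot f)[X] := fA.comp (C α * X) - C (α ^ n) * fA
  have hD : D = 0 := by
    apply eq_zero_of_dvd_of_natDegree_lt (hf.map (algebraMap K (AdjoinRoot f)))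
    · apply dvd_of_eval_rootR
      simp only [D, fA, eval₂_sub, eval₂_comp, eval₂_map, eval₂_mul, eval₂_X, eval₂_C]
      exact (congrArg₂ (fun x y => x - AdjoinRoot.of _ (α ^ n) * y) h (eval_rootR f)).trans
        ((congrArg _ (mul_zero _)).trans (sub_zero _))
    · intro j hj
      rw [natDegree_map] at hj
      simp only [D, coeff_sub, coeff_C_mul, comp_C_mul_X_coeff, fA, coeff_map]
      rcases eq_or_lt_of_le hj with rfl | hlt
      · rw [hf.coeff_natDegree]
        simp [n]
      · simp [coeff_eq_zero_of_natDegree_lt hlt]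
  have hc := congrArg (fun p => p.coeff 0) hD
  simp only [D, coeff_sub, coeff_C_mul, comp_C_mul_X_coeff, fA, coeff_map, pow_zero, mul_one,
    coeff_zero] at hc
  have hdvd : f ∣ C (f.coeff 0) * (1 - X ^ n) := by
    rw [← AdjoinRoot.mk_eq_zero]
    simp only [map_mul, map_sub, map_one, map_pow, AdjoinRoot.mk_C, AdjoinRoot.mk_X]
    rw [← hc, AdjoinRoot.algebraMap_eq]
    ring
  have hdvd' : f ∣ X ^ n - 1 := by
    have := hdvd.mul_left (C (-(f.coeff 0)⁻¹))
    convert this using 1
    rw [← mul_assoc, ← map_mul, neg_mul, inv_mul_cancel₀ h0, map_neg, map_one]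
    ring
  symm
  apply eq_of_monic_of_dvd_of_natDegree_le hf (monic_X_pow_sub_C 1 hn.ne') hdvd'
  exact (natDegree_X_pow_sub_C (r := (1 : K))).le

end Groth.Agent.GaGmKer
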