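import Mathlib.AlgebraicGeometry.Group.Affine
import Mathlib.AlgebraicGeometry.Morphisms.Finite
import Mathlib.AlgebraicGeometry.Morphisms.Flat
import Mathlib.Algebra.Algebra.Epi
import Mathlib.FieldTheory.Minpoly.Field
import Groth.Agent.GaGmKerLib.Poly

/-! Finite monomorphisms into a scheme whose points are functions. -/

noncomputable section

universe u

open CategoryTheory MonoidalCategory CartesianMonoidalCategory MonObj AlgebraicGeometry
open scoped TensorProduct

namespace Groth.Agent.GaGmKer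

open Polynomial

variable {K : Type u} [Field K]

/-- the structure map on global functions of a `K`-scheme -/
def algMap (T : Over (Spec (CommRingCat.of K))) : K →+* Γ(T.left, ⊤) :=
  ((Scheme.ΓSpecIso (CommRingCat.of K)).inv ≫ T.hom.appTop).hom

lemma algMap_comp {T T' : Over (Spec (CommRingCat.of K))} (g : T' ⟶ T) :
    g.left.appTop.hom.comp (algMap T) = algMap T' := by
  rw [algMap, algMap, ← CommRingCat.hom_comp, Category.assoc, ← Scheme.Hom.comp_appTop, Over.w g]

lemma appTop_eval₂ {T T' : Over (Spec (CommRingCat.of K))} (g : T' ⟶ T) (f : K[X]) (a : Γ(T.left, ⊤)) :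
    g.left.appTop (f.eval₂ (algMap T) a) = f.eval₂ (algMap T') (g.left.appTop a) := by
  rw [← algMap_comp g]
  exact hom_eval₂ f (algMap T) g.left.appTop.hom a

/-- a `K`-scheme `Spec R` -/
abbrev specOver {R : Type u} [CommRing R] (θ : K →+* R) : Over (Spec (CommRingCat.of K)) :=
  Over.mk (Spec.map (CommRingCat.ofHom θ))

/-- global functions on `Spec R` -/
def γ {R : Type u} [CommRing R] (θ : K →+* R) : R →+* Γ((specOver θ).left, ⊤) :=
  (Scheme.ΓSpecIso (CommRingCat.of R)).inv.hom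

lemma γ_bijective {R : Type u} [CommRing R] (θ : K →+* R) : Function.Bijective (γ θ) :=
  (Scheme.ΓSpecIso (CommRingCat.of R)).symm.commRingCatIsoToRingEquiv.bijective

lemma algMap_specOver {R : Type u} [CommRing R] (θ : K →+* R) :
    algMap (specOver θ) = (γ θ).comp θ := by
  have h := congrArg CommRingCat.Hom.hom (Scheme.ΓSpecIso_inv_naturality (CommRingCat.ofHom θ))
  exact h.symm

section homOf

variable {T X : Over (Spec (CommRingCat.of K))} [IsAffine X.left]

/-- the morphism into an affine scheme attached to a map on functions -/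
def homOfLeft (χ : Γ(X.left, ⊤) →+* Γ(T.left, ⊤)) : T.left ⟶ X.left :=
  T.left.toSpecΓ ≫ Spec.map (CommRingCat.ofHom χ) ≫ X.left.isoSpec.inv

lemma homOfLeft_appTop (χ : Γ(X.left, ⊤) →+* Γ(T.left, ⊤)) :
    (homOfLeft χ).appTop = CommRingCat.ofHom χ := by
  have h1 : X.left.isoSpec.hom.appTop ≫ X.left.isoSpec.inv.appTop = 𝟙 _ ∧
      X.left.isoSpec.inv.appTop ≫ X.left.isoSpec.hom.appTop = 𝟙 _ := by
    constructor <;> simp [← Scheme.Hom.comp_appTop]
  have h2 : X.left.isoSpec.hom.appTop = (Scheme.ΓSpecIso Γ(X.left, ⊤)).hom :=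
    Scheme.toSpecΓ_appTop _
  have h3 : X.left.isoSpec.inv.appTop = (Scheme.ΓSpecIso Γ(X.left, ⊤)).inv := by
    rw [← cancel_mono (Scheme.ΓSpecIso Γ(X.left, ⊤)).hom, Iso.inv_hom_id, ← h2]
    exact h1.2
  rw [homOfLeft, Scheme.Hom.comp_appTop, Scheme.Hom.comp_appTop, Scheme.toSpecΓ_appTop, h3,
    ← Scheme.ΓSpecIso_inv_naturality, Category.assoc, Iso.inv_hom_id, Category.comp_id]

/-- the morphism over `K` attached to a `K`-linear map on functions -/
def homOf (χ : Γ(X.left, ⊤) →+* Γ(T.left, ⊤)) (hχ : χ.comp (algMap X) = algMap T) : T ⟶ X :=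
  Over.homMk (homOfLeft χ) (by
    apply ext_of_isAffine
    rw [Scheme.Hom.comp_appTop, homOfLeft_appTop,
      ← cancel_epi (Scheme.ΓSpecIso (CommRingCat.of K)).inv]
    apply CommRingCat.hom_ext
    exact hχ)

lemma homOf_appTop (χ : Γ(X.left, ⊤) →+* Γ(T.left, ⊤)) (hχ : χ.comp (algMap X) = algMap T)
    (a : Γ(X.left, ⊤)) : (homOf χ hχ).left.appTop a = χ a := by
  show (homOfLeft χ).appTop a = χ a
  rw [homOfLeft_appTop]
  rfl

lemma hom_ext_of_appTop {x y : T ⟶ X} (h : ∀ a, x.left.appTop a = y.left.appTop a) : x = y := by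
  ext1
  apply ext_of_isAffine
  exact CommRingCat.hom_ext (RingHom.ext h)

end homOf

/-- A scheme over `K` whose points are (some of) the global functions. -/
structure Coordinate (G : Over (Spec (CommRingCat.of K))) where
  fn : ∀ {T : Over (Spec (CommRingCat.of K))}, (T ⟶ G) → Γ(T.left, ⊤)
  fn_comp : ∀ {T T' : Over (Spec (CommRingCat.of K))} (g : T' ⟶ T) (x : T ⟶ G),
    fn (g ≫ x) = g.left.appTop (fn x)
  fn_inj : ∀ {T : Over (Spec (CommRingCat.of K))}, Function.Injective (fn (T := T))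

variable {G H : Over (Spec (CommRingCat.of K))}

/-- **A finite subscheme is the zero locus of one monic polynomial in the coordinate.** -/
theorem exists_poly (c : Coordinate G) (i : H ⟶ G) [Mono i] [IsFinite H.hom] :
    ∃ f : K[X], f.Monic ∧ f.eval₂ (algMap H) (c.fn i) = 0 ∧
      (∀ g : K[X], g.eval₂ (algMap H) (c.fn i) = 0 → f ∣ g) ∧
      ∀ (T : Over (Spec (CommRingCat.of K))) (a : Γ(T.left, ⊤)), f.eval₂ (algMap T) a = 0 →
        ∃ g : T ⟶ H, c.fn (g ≫ i) = a := by
  have : IsAffine H.left := isAffine_of_isAffineHom H.hom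
  letI : Algebra K Γ(H.left, ⊤) := (algMap H).toAlgebra
  have : Module.Finite K Γ(H.left, ⊤) := by
    have h1 : H.hom.appTop.hom.Finite := H.hom.finite_appTop
    have h2 : ((Scheme.ΓSpecIso (CommRingCat.of K)).inv.hom : K →+* _).Finite :=
      RingHom.Finite.of_surjective _
        (Scheme.ΓSpecIso (CommRingCat.of K)).symm.commRingCatIsoToRingEquiv.surjective
    exact h1.comp h2
  let α : Γ(H.left, ⊤) := c.fn i
  have hint : IsIntegral K α := Algebra.IsIntegral.isIntegral α
  let f := minpoly K α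
  let φ : AdjoinRoot f →ₐ[K] Γ(H.left, ⊤) := AdjoinRoot.liftAlgHom f (Algebra.ofId _ _) α (minpoly.aeval K α)
  have hφroot : φ (AdjoinRoot.root f) = α := AdjoinRoot.liftAlgHom_root _ _ _ _
  have hφmk : ∀ q : K[X], φ (AdjoinRoot.mk f q) = q.eval₂ (algMap H) α := fun q => by
    simp only [φ, AdjoinRoot.liftAlgHom_mk]
    rfl
  have hinj : Function.Injective φ := by
    rw [injective_iff_map_eq_zero]
    intro z hz
    obtain ⟨q, rfl⟩ := AdjoinRoot.mk_surjective z
    rw [AdjoinRoot.mk_eq_zero]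
    exact minpoly.dvd K α ((hφmk q).symm.trans hz)
  letI : Algebra (AdjoinRoot f) Γ(H.left, ⊤) := φ.toRingHom.toAlgebra
  have : IsScalarTower K (AdjoinRoot f) Γ(H.left, ⊤) :=
    IsScalarTower.of_algebraMap_eq fun r => (φ.commutes r).symm
  have : Module.Finite (AdjoinRoot f) Γ(H.left, ⊤) := Module.Finite.of_restrictScalars_finite K _ _
  have hsurj : Function.Surjective φ := by
    suffices Algebra.IsEpi (AdjoinRoot f) Γ(H.left, ⊤) from
      (Algebra.isEpi_iff_surjective_algebraMap_of_finite).1 this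
    rw [Algebra.isEpi_iff_forall_one_tmul_eq]
    intro a
    let P := Γ(H.left, ⊤) ⊗[AdjoinRoot f] Γ(H.left, ⊤)
    let lft : Γ(H.left, ⊤) →+* P := Algebra.TensorProduct.includeLeftRingHom
    let rgt : Γ(H.left, ⊤) →+* P :=
      (Algebra.TensorProduct.includeRight (R := AdjoinRoot f) (A := Γ(H.left, ⊤))
        (B := Γ(H.left, ⊤))).toRingHom
    have hagree : ∀ z, lft (φ z) = rgt (φ z) := fun z => by
      show (φ z) ⊗ₜ[AdjoinRoot f] (1 : Γ(H.left, ⊤)) = (1 : Γ(H.left, ⊤)) ⊗ₜ[AdjoinRoot f] (φ z)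
      rw [show φ z = z • (1 : Γ(H.left, ⊤)) by rw [Algebra.smul_def, _root_.mul_one]; rfl,
        TensorProduct.smul_tmul]
    let θ : K →+* P := lft.comp (algMap H)
    have hθ : rgt.comp (algMap H) = θ := RingHom.ext fun r => by
      have := hagree (algebraMap K _ r)
      rw [φ.commutes] at this
      exact this.symm
    let x : specOver θ ⟶ H := homOf ((γ θ).comp lft) (by
      rw [algMap_specOver, RingHom.comp_assoc])
    let y : specOver θ ⟶ H := homOf ((γ θ).comp rgt) (by
      rw [algMap_specOver, RingHom.comp_assoc, hθ])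
    have hxy : x = y := by
      rw [← cancel_mono i]
      apply c.fn_inj
      rw [c.fn_comp, c.fn_comp, homOf_appTop, homOf_appTop]
      show γ θ (lft α) = γ θ (rgt α)
      rw [← hφroot, hagree]
    have := congrArg (fun z : specOver θ ⟶ H => z.left.appTop a) hxy
    simp only [x, y, homOf_appTop] at this
    exact ((γ_bijective θ).1 this).symm
  let e : AdjoinRoot f ≃ₐ[K] Γ(H.left, ⊤) := AlgEquiv.ofBijective φ ⟨hinj, hsurj⟩
  refine ⟨f, minpoly.monic hint, minpoly.aeval K α, fun g hg => minpoly.dvd K α hg, fun T a ha => ?_⟩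
  let χ : Γ(H.left, ⊤) →+* Γ(T.left, ⊤) := (AdjoinRoot.lift (algMap T) a ha).comp e.symm.toRingEquiv.toRingHom
  have hχ : χ.comp (algMap H) = algMap T := RingHom.ext fun r => by
    show AdjoinRoot.lift (algMap T) a ha (e.symm (algebraMap K _ r)) = _
    rw [AlgEquiv.commutes, AdjoinRoot.algebraMap_eq, AdjoinRoot.lift_of]
  refine ⟨homOf χ hχ, ?_⟩
  rw [c.fn_comp, homOf_appTop]
  show AdjoinRoot.lift (algMap T) a ha (e.symm α) = a
  rw [← hφroot, show φ (AdjoinRoot.root f) = e (AdjoinRoot.root f) from rfl, AlgEquiv.symm_apply_apply,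
    AdjoinRoot.lift_root]

variable [GrpObj G] [GrpObj H]

/-- the roots are stable under the group law -/
lemma eval_mul_eq_zero (c : Coordinate G) (i : H ⟶ G) [IsMonHom i] {f : K[X]}
    (hf : f.eval₂ (algMap H) (c.fn i) = 0) {T : Over (Spec (CommRingCat.of K))} (g g' : T ⟶ H) :
    f.eval₂ (algMap T) (c.fn ((g ≫ i) * (g' ≫ i))) = 0 := by
  rw [← MonObj.mul_comp, c.fn_comp, ← appTop_eval₂, hf, map_zero]

/-- the neutral point is a root -/
lemma eval_one_eq_zero (c : Coordinate G) (i : H ⟶ G) [IsMonHom i] {f : K[X]}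
    (hf : f.eval₂ (algMap H) (c.fn i) = 0) (T : Over (Spec (CommRingCat.of K))) :
    f.eval₂ (algMap T) (c.fn (1 : T ⟶ G)) = 0 := by
  rw [← MonObj.one_comp (X := T) i, c.fn_comp, ← appTop_eval₂, hf, map_zero]

/-- Criterion for being the kernel. -/
lemma isKernel_of_iff (c : Coordinate G) (i : H ⟶ G) [IsMonHom i] [Mono i] {f : K[X]}
    (hf : f.eval₂ (algMap H) (c.fn i) = 0)
    (hfac : ∀ (T : Over (Spec (CommRingCat.of K))) (a : Γ(T.left, ⊤)), f.eval₂ (algMap T) a = 0 →
        ∃ g : T ⟶ H, c.fn (g ≫ i) = a)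
    (φ : G ⟶ G) [IsMonHom φ]
    (hφ : ∀ (T : Over (Spec (CommRingCat.of K))) (x : T ⟶ G), x ≫ φ = 1 ↔ f.eval₂ (algMap T) (c.fn x) = 0) :
    IsPullback i (toUnit H) φ η[G] := by
  have h1 : ∀ T : Over (Spec (CommRingCat.of K)), toUnit T ≫ η[G] = (1 : T ⟶ G) :=
    fun T => (Hom.one_def).symm
  have w : i ≫ φ = toUnit H ≫ η[G] := by
    rw [h1, hφ]
    exact hf
  have hlift : ∀ s : Limits.PullbackCone φ η[G], ∃ g : s.pt ⟶ H, g ≫ i = s.fst := by
    intro s
    have hs : s.fst ≫ φ = 1 := by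
      rw [s.condition, toUnit_unique s.snd (toUnit _), h1]
    obtain ⟨g, hg⟩ := hfac _ _ ((hφ _ _).1 hs)
    exact ⟨g, c.fn_inj hg⟩
  choose L hL using hlift
  exact ⟨⟨w⟩, ⟨Limits.PullbackCone.IsLimit.mk w L hL (fun s => toUnit_unique _ _)
    fun s m hm _ => by rw [← cancel_mono i, hm, hL]⟩⟩

end Groth.Agent.GaGmKer
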