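import Groth.Agent.GaGmKerLib.Main

/-! Transport along an isomorphism of groups. -/

noncomputable section

universe u

open CategoryTheory MonoidalCategory CartesianMonoidalCategory MonObj GrpObj AlgebraicGeometry

namespace Groth.Agent.GaGmKer

variable {K : Type u} [Field K]

lemma transport {G G' H : Over (base K)} [GrpObj G] [GrpObj G'] [GrpObj H] (e : Grp.mk G ≅ Grp.mk G')
    (i : H ⟶ G) [IsMonHom i] [Mono i]
    (h : ∀ j : H ⟶ G', IsMonHom j → Mono j →
      ∃ φ : G' ⟶ G', IsMonHom φ ∧ AlgGrp.IsKernel j φ ∧ Flat φ.left ∧ Surjective φ.left) :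
    ∃ φ : G ⟶ G, IsMonHom φ ∧ AlgGrp.IsKernel i φ ∧ Flat φ.left ∧ Surjective φ.left := by
  let a : G ≅ G' := (Grp.forget (Over (base K))).mapIso e
  have ha : IsMonHom a.hom := e.hom.hom.isMonHom_hom
  have ha' : IsMonHom a.inv := e.inv.hom.isMonHom_hom
  obtain ⟨φ, hφ, hk, hf, hs⟩ := h (i ≫ a.hom) inferInstance inferInstance
  refine ⟨a.hom ≫ φ ≫ a.inv, inferInstance, ?_, ?_, ?_⟩
  · refine IsPullback.of_iso hk (Iso.refl _) a.symm (Iso.refl _) a.symm ?_ ?_ ?_ ?_
    · simp
    · simp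
    · simp
    · simp [IsMonHom.one_hom a.inv]
  · have : IsIso a.hom.left := inferInstanceAs (IsIso ((Over.forget _).map a.hom))
    have : IsIso a.inv.left := inferInstanceAs (IsIso ((Over.forget _).map a.inv))
    rw [Over.comp_left, Over.comp_left]
    infer_instance
  · have : IsIso a.hom.left := inferInstanceAs (IsIso ((Over.forget _).map a.hom))
    have : IsIso a.inv.left := inferInstanceAs (IsIso ((Over.forget _).map a.inv))
    rw [Over.comp_left, Over.comp_left]
    infer_instance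

theorem exists_of_iso (G H : Over (base K)) [GrpObj G] [GrpObj H]
    (hG : Nonempty (Grp.mk G ≅ Grp.mk (Red.Ga (base K))) ∨ Nonempty (Grp.mk G ≅ Grp.mk (Red.Gm (base K))))
    (i : H ⟶ G) [IsMonHom i] [Mono i] [IsFinite H.hom] :
    ∃ φ : G ⟶ G, IsMonHom φ ∧ AlgGrp.IsKernel i φ ∧ Flat φ.left ∧ Surjective φ.left := by
  rcases hG with ⟨⟨e⟩⟩ | ⟨⟨e⟩⟩
  · exact transport e i fun j hj hj' => ga_main j
  · exact transport e i fun j hj hj' => gm_main j

end Groth.Agent.GaGmKer
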